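import Groth.Agent.W2LiftL.Basic
import Mathlib.Algebra.MvPolynomial.PDeriv
import Mathlib.RingTheory.Polynomial.Basic

/-! Frobenius lifts on polynomial rings over `W₂(k)`. -/

set_option autoImplicit false
universe u

open FrobAlg MvPolynomial

namespace FLiftPolyLib

variable {p : ℕ} [Fact p.Prime] {k : Type u} [Field k] [CharP k p] {n : ℕ}


theorem natCast_sq_poly : (p : (MvPolynomial (Fin n) (W2 p k))) * (p : (MvPolynomial (Fin n) (W2 p k))) = 0 := by
  rw [← map_natCast (C : W2 p k →+* (MvPolynomial (Fin n) (W2 p k))), ← map_mul, W2LiftLib.natCast_sq, map_zero]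

theorem res_sigma (x : W2 p k) : res p k (sigma p k x) = res p k x ^ p := by
  rw [res_apply, res_apply, WittGrp.coeff_frob]

theorem map_res_polyFrob (g : (MvPolynomial (Fin n) (W2 p k))) :
    MvPolynomial.map (res p k) (polyFrob p k (Fin n) g) = MvPolynomial.map (res p k) g ^ p := by
  have h : (MvPolynomial.map (σ := Fin n) (res p k)).comp (polyFrob p k (Fin n)) =
      (frobenius (MvPolynomial (Fin n) k) p).comp (MvPolynomial.map (res p k)) := by
    refine MvPolynomial.ringHom_ext (fun a => ?_) fun i => ?_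
    · simp only [RingHom.comp_apply, polyFrob, eval₂Hom_C, map_C, frobenius_def, res_sigma, map_pow]
    · simp only [RingHom.comp_apply, polyFrob, eval₂Hom_X', map_X, frobenius_def, map_pow]
  exact RingHom.congr_fun h g

variable [PerfectRing k p]

theorem map_res_eq_zero_iff (g : (MvPolynomial (Fin n) (W2 p k))) : MvPolynomial.map (res p k) g = 0 ↔ ∃ r, g = (p : (MvPolynomial (Fin n) (W2 p k))) * r := by
  rw [← RingHom.mem_ker, MvPolynomial.ker_map, W2LiftLib.ker_res, Ideal.map_span, Set.image_singleton, map_natCast,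
    Ideal.mem_span_singleton]
  exact Iff.rfl

theorem natCast_mul_eq_of_map_eq {a b : (MvPolynomial (Fin n) (W2 p k))} (h : MvPolynomial.map (res p k) a = MvPolynomial.map (res p k) b) :
    (p : (MvPolynomial (Fin n) (W2 p k))) * a = (p : (MvPolynomial (Fin n) (W2 p k))) * b := by
  obtain ⟨r, hr⟩ := (map_res_eq_zero_iff (a - b)).1 (by rw [map_sub, h, sub_self])
  rw [← sub_eq_zero, ← mul_sub, hr, ← mul_assoc, natCast_sq_poly, zero_mul]

/-- The Frobenius lift with `X j ↦ X j ^ p + p h_j`. -/
noncomputable def frobLift (h : Fin n → (MvPolynomial (Fin n) (W2 p k))) : (MvPolynomial (Fin n) (W2 p k)) →+* (MvPolynomial (Fin n) (W2 p k)) :=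
  MvPolynomial.eval₂Hom (C.comp (sigma p k)) fun i => X i ^ p + (p : (MvPolynomial (Fin n) (W2 p k))) * h i

theorem frobLift_eq (h : Fin n → (MvPolynomial (Fin n) (W2 p k))) (f : (MvPolynomial (Fin n) (W2 p k))) :
    frobLift h f = polyFrob p k (Fin n) f + (p : (MvPolynomial (Fin n) (W2 p k))) * ∑ j, pderiv j f ^ p * h j := by
  have key : frobLift h f = polyFrob p k (Fin n) f + (p : (MvPolynomial (Fin n) (W2 p k))) * ∑ j, polyFrob p k (Fin n) (pderiv j f) * h j := by
    induction f using MvPolynomial.induction_on with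
    | C a => simp [frobLift, polyFrob]
    | add f g hf hg =>
      simp only [map_add, hf, hg, add_mul, Finset.sum_add_distrib, mul_add]
      ring
    | mul_X f i hf =>
      have hX : frobLift h (X i) = X i ^ p + (p : (MvPolynomial (Fin n) (W2 p k))) * h i := by simp [frobLift]
      have hF : polyFrob p k (Fin n) (X i) = (X i : (MvPolynomial (Fin n) (W2 p k))) ^ p := by simp [polyFrob]
      have hsum : ∑ j, polyFrob p k (Fin n) (pderiv j (f * X i)) * h j =
          (∑ j, polyFrob p k (Fin n) (pderiv j f) * h j) * (X i) ^ p + polyFrob p k (Fin n) f * h i := by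
        have hj : ∀ j, polyFrob p k (Fin n) (pderiv j (f * X i)) * h j =
            polyFrob p k (Fin n) (pderiv j f) * h j * (X i) ^ p +
              (if j = i then polyFrob p k (Fin n) f * h i else 0) := by
          intro j
          rw [pderiv_mul, pderiv_X, map_add, map_mul, map_mul, hF]
          by_cases hji : j = i
          · subst hji; rw [Pi.single_eq_same, map_one, if_pos rfl]; ring
          · rw [Pi.single_eq_of_ne (Ne.symm hji), map_zero, if_neg hji]; ring
        rw [Finset.sum_congr rfl fun j _ => hj j, Finset.sum_add_distrib, ← Finset.sum_mul, Finset.sum_ite_eq' Finset.univ i,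
          if_pos (Finset.mem_univ i)]
      rw [map_mul, map_mul, hf, hX, hF, hsum]
      linear_combination ((∑ j, polyFrob p k (Fin n) (pderiv j f) * h j) * h i) * natCast_sq_poly (p := p) (k := k) (n := n)
  rw [key, Finset.mul_sum, Finset.mul_sum]
  refine congrArg _ (Finset.sum_congr rfl fun j _ => ?_)
  rw [← mul_assoc, ← mul_assoc, natCast_mul_eq_of_map_eq (a := polyFrob p k (Fin n) (pderiv j f))
    (b := pderiv j f ^ p) (by rw [map_res_polyFrob, map_pow])]

theorem map_res_frobLift (h : Fin n → (MvPolynomial (Fin n) (W2 p k))) (g : (MvPolynomial (Fin n) (W2 p k))) :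
    MvPolynomial.map (res p k) (frobLift h g) = MvPolynomial.map (res p k) g ^ p := by
  rw [frobLift_eq, map_add, map_res_polyFrob, map_mul, map_natCast, CharP.cast_eq_zero, zero_mul, add_zero]

theorem frobLift_C (h : Fin n → (MvPolynomial (Fin n) (W2 p k))) (a : W2 p k) : frobLift h (C a) = C (sigma p k a) := by
  simp [frobLift]

variable (J : Ideal (MvPolynomial (Fin n) (W2 p k)))

/-- A Frobenius lift modulo `J` comes from some `frobLift`. -/
theorem exists_frobLift (Φ : (MvPolynomial (Fin n) (W2 p k)) ⧸ J →+* (MvPolynomial (Fin n) (W2 p k)) ⧸ J)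
    (hsemi : ∀ a, Φ (Ideal.Quotient.mk J (C a)) = Ideal.Quotient.mk J (C (sigma p k a)))
    (hred : ∀ b, Ideal.quotientMap (J.map (MvPolynomial.map (res p k))) (MvPolynomial.map (res p k))
        Ideal.le_comap_map (Φ b) =
      Ideal.quotientMap (J.map (MvPolynomial.map (res p k))) (MvPolynomial.map (res p k)) Ideal.le_comap_map b ^ p) :
    ∃ h : Fin n → (MvPolynomial (Fin n) (W2 p k)), ∀ g, Ideal.Quotient.mk J (frobLift h g) = Φ (Ideal.Quotient.mk J g) := by
  have hj : ∀ j, ∃ r : (MvPolynomial (Fin n) (W2 p k)), Ideal.Quotient.mk J (X j ^ p + (p : (MvPolynomial (Fin n) (W2 p k))) * r) = Φ (Ideal.Quotient.mk J (X j)) := by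
    intro j
    obtain ⟨y, hy⟩ := Ideal.Quotient.mk_surjective (Φ (Ideal.Quotient.mk J (X j)))
    have h := hred (Ideal.Quotient.mk J (X j))
    rw [← hy, Ideal.quotientMap_mk, Ideal.quotientMap_mk, ← map_pow, ← map_pow, Ideal.Quotient.eq, ← map_sub,
      Ideal.mem_map_iff_of_surjective _ (MvPolynomial.map_surjective (res p k)
        fun a => ⟨WittVector.truncate 2 (WittVector.teichmuller p a), by
          rw [res_truncate, WittVector.teichmuller_coeff_zero]⟩)] at h
    obtain ⟨z, hz, hzy⟩ := h
    obtain ⟨r, hr⟩ := (map_res_eq_zero_iff (y - X j ^ p - z)).1 (by rw [map_sub, hzy, sub_self])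
    refine ⟨r, ?_⟩
    rw [← hy, Ideal.Quotient.eq, show X j ^ p + (p : (MvPolynomial (Fin n) (W2 p k))) * r - y = -z by linear_combination -hr]
    exact J.neg_mem hz
  choose r hr using hj
  refine ⟨r, fun g => ?_⟩
  have h : (Ideal.Quotient.mk J).comp (frobLift r) = Φ.comp (Ideal.Quotient.mk J) := by
    refine MvPolynomial.ringHom_ext (fun a => ?_) fun i => ?_
    · rw [RingHom.comp_apply, RingHom.comp_apply, frobLift_C, hsemi]
    · rw [RingHom.comp_apply, RingHom.comp_apply, ← hr i]
      simp [frobLift]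
  exact RingHom.congr_fun h g

theorem exists_lift_iff {m : ℕ} (f' : Fin m → (MvPolynomial (Fin n) (W2 p k)))
    (hflat : ((Ideal.Quotient.mk (Ideal.span (Set.range f'))).comp (C : W2 p k →+* (MvPolynomial (Fin n) (W2 p k)))).Flat) :
    (∃ Φ : ((MvPolynomial (Fin n) (W2 p k)) ⧸ Ideal.span (Set.range f')) →+* ((MvPolynomial (Fin n) (W2 p k)) ⧸ Ideal.span (Set.range f')),
      Φ.comp ((Ideal.Quotient.mk (Ideal.span (Set.range f'))).comp C) =
        ((Ideal.Quotient.mk (Ideal.span (Set.range f'))).comp C).comp (sigma p k) ∧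
      ∀ b, Ideal.quotientMap ((Ideal.span (Set.range f')).map (MvPolynomial.map (res p k)))
          (MvPolynomial.map (res p k)) Ideal.le_comap_map (Φ b) =
        (Ideal.quotientMap ((Ideal.span (Set.range f')).map (MvPolynomial.map (res p k)))
          (MvPolynomial.map (res p k)) Ideal.le_comap_map b) ^ p) ↔
    ∃ h : Fin n → (MvPolynomial (Fin n) (W2 p k)), ∀ i, polyFrob p k (Fin n) (f' i) - f' i ^ p - (p : (MvPolynomial (Fin n) (W2 p k))) * ∑ j, pderiv j (f' i) ^ p * h j
        ∈ Ideal.span {(p : (MvPolynomial (Fin n) (W2 p k)))} * Ideal.span (Set.range f') := by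
  set J := Ideal.span (Set.range f') with hJ
  have hfJ : ∀ i, f' i ∈ J := fun i => Ideal.subset_span ⟨i, rfl⟩
  constructor
  · rintro ⟨Φ, hsemi, hred⟩
    obtain ⟨h, hh⟩ := exists_frobLift J Φ (fun a => RingHom.congr_fun hsemi a) hred
    refine ⟨fun j => -h j, fun i => ?_⟩
    have hmem : frobLift h (f' i) - f' i ^ p ∈ J := by
      refine sub_mem ?_ (J.pow_mem_of_mem (hfJ i) p (Fact.out : p.Prime).pos)
      rw [← Ideal.Quotient.eq_zero_iff_mem, hh, Ideal.Quotient.eq_zero_iff_mem.2 (hfJ i), map_zero]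
    obtain ⟨r, hr⟩ := (map_res_eq_zero_iff (frobLift h (f' i) - f' i ^ p)).1 (by
      rw [map_sub, map_res_frobLift, map_pow, sub_self])
    have hz : polyFrob p k (Fin n) (f' i) - f' i ^ p - (p : (MvPolynomial (Fin n) (W2 p k))) * ∑ j, pderiv j (f' i) ^ p * -h j = (p : (MvPolynomial (Fin n) (W2 p k))) * r := by
      rw [← hr, frobLift_eq]
      simp only [mul_neg, Finset.sum_neg_distrib]
      ring
    rw [hz]
    obtain ⟨c, hc⟩ := (W2LiftLib.ringHom_flat_iff _).1 hflat (Ideal.Quotient.mk J r) (by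
      rw [← map_natCast (Ideal.Quotient.mk J), ← map_mul, ← hr, Ideal.Quotient.eq_zero_iff_mem]; exact hmem)
    obtain ⟨c, rfl⟩ := Ideal.Quotient.mk_surjective c
    rw [← map_natCast (Ideal.Quotient.mk J), ← map_mul, Ideal.Quotient.eq] at hc
    rw [show (p : (MvPolynomial (Fin n) (W2 p k))) * r = (p : (MvPolynomial (Fin n) (W2 p k))) * (r - (p : (MvPolynomial (Fin n) (W2 p k))) * c) by linear_combination c * natCast_sq_poly (p := p) (k := k) (n := n)]
    exact Ideal.mul_mem_mul (Ideal.mem_span_singleton_self _) hc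
  · rintro ⟨h, hh⟩
    let φ := frobLift fun j => -h j
    have hle : J ≤ RingHom.ker ((Ideal.Quotient.mk J).comp φ) := by
      rw [hJ, Ideal.span_le]
      rintro _ ⟨i, rfl⟩
      rw [SetLike.mem_coe, RingHom.mem_ker, RingHom.comp_apply, Ideal.Quotient.eq_zero_iff_mem]
      have h1 := add_mem (Ideal.mul_le_right (hh i)) (J.pow_mem_of_mem (hfJ i) p (Fact.out : p.Prime).pos)
      refine (show φ (f' i) = _ from ?_) ▸ h1
      show frobLift _ (f' i) = _
      rw [frobLift_eq]
      simp only [mul_neg, Finset.sum_neg_distrib]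
      ring
    refine ⟨Ideal.Quotient.lift J ((Ideal.Quotient.mk J).comp φ) hle, RingHom.ext fun a => ?_, fun b => ?_⟩
    · simp only [RingHom.comp_apply, Ideal.Quotient.lift_mk, φ, frobLift_C]
    · obtain ⟨g, rfl⟩ := Ideal.Quotient.mk_surjective b
      rw [Ideal.Quotient.lift_mk, RingHom.comp_apply, Ideal.quotientMap_mk, Ideal.quotientMap_mk, map_res_frobLift,
        map_pow]

end FLiftPolyLib
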